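import Groth.Agent.WeilLib.Dim
import Groth.Agent.DimTrdegLib.Basic
import Mathlib

/-!
# Fibre dimension and transcendence degree; the substitution `x ↦ aⁿ + b`
-/

set_option autoImplicit false

universe u

open Polynomial Cardinal

namespace FibPowLib

variable {R S : Type u} [CommRing R] [CommRing S] [Algebra R S]
variable {K : Type u} [Field K] [Algebra R K]

theorem isAlgebraic_mono {A B : Subalgebra R K} (h : A ≤ B) {x : K} (hx : IsAlgebraic A x) : IsAlgebraic B x :=
  hx.ringHom_of_comp_eq (Subalgebra.inclusion h).toRingHom (RingHom.id K) (Subalgebra.inclusion_injective h) rfl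

theorem isAlgebraic_trans {A B : Subalgebra R K} (hB : ∀ b ∈ B, IsAlgebraic A b) {x : K} (hx : IsAlgebraic B x) :
    IsAlgebraic A x := by
  let AC := Subalgebra.algebraicClosure A K
  have hle : B ≤ AC.restrictScalars R := hB
  have hx' : IsAlgebraic AC x :=
    hx.ringHom_of_comp_eq (Subalgebra.inclusion hle).toRingHom (RingHom.id K) (Subalgebra.inclusion_injective hle) rfl
  exact hx'.restrictScalars A

/-- Algebraicity spreads from generators. -/
theorem isAlgebraic_of_gens (φ : S →ₐ[R] K) {G : Set S} (hG : Algebra.adjoin R G = ⊤) (A : Subalgebra R K)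
    (h : ∀ g ∈ G, IsAlgebraic A (φ g)) (s : S) : IsAlgebraic A (φ s) := by
  have hle : Algebra.adjoin R G ≤ ((Subalgebra.algebraicClosure A K).restrictScalars R).comap φ :=
    Algebra.adjoin_le h
  exact hle (hG ▸ Algebra.mem_top (R := R) (A := S) (x := s))

/-- `s` satisfies at `φ` the relation `f` over the elements `T`. -/
def RelAt {ι : Type} (φ : S →ₐ[R] K) (T : ι → S) (s : S) (f : (MvPolynomial ι R)[X]) : Prop :=
  φ (f.eval₂ (MvPolynomial.aeval T).toRingHom s) = 0 ∧ φ (MvPolynomial.aeval T f.leadingCoeff) ≠ 0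

theorem exists_relAt {ι : Type} {φ : S →ₐ[R] K} {T : ι → S} {s : S}
    (h : IsAlgebraic (Algebra.adjoin R (Set.range (φ ∘ T))) (φ s)) : ∃ f, RelAt φ T s f := by
  obtain ⟨g, hg0, hgs⟩ := h
  let A := Algebra.adjoin R (Set.range (φ ∘ T))
  let π : MvPolynomial ι R →ₐ[R] A :=
    (MvPolynomial.aeval (φ ∘ T)).codRestrict A fun p => by
      rw [show A = (MvPolynomial.aeval (φ ∘ T)).range from Algebra.adjoin_range_eq_range_aeval R (φ ∘ T)]
      exact ⟨p, rfl⟩
  have hπ : Function.Surjective π := fun x => by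
    have hx := (SetLike.ext_iff.1 (Algebra.adjoin_range_eq_range_aeval R (φ ∘ T)) (x : K)).1 x.2
    obtain ⟨p, hp⟩ := hx
    exact ⟨p, Subtype.ext hp⟩
  have hl : g ∈ Polynomial.lifts π.toRingHom := (Polynomial.lifts_iff_coeff_lifts g).2 fun n => hπ _
  obtain ⟨f, hf, hdeg⟩ := Polynomial.mem_lifts_and_degree_eq hl
  have hcomp : φ.toRingHom.comp (MvPolynomial.aeval T).toRingHom = (algebraMap A K).comp π.toRingHom := by
    refine MvPolynomial.ringHom_ext (fun r => ?_) (fun i => ?_)
    · simp [π, A]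
    · simp [π, A]
  refine ⟨f, ?_, fun h0 => ?_⟩
  · rw [← hf, aeval_def, eval₂_map, ← hcomp] at hgs
    rw [← AlgHom.coe_toRingHom φ, Polynomial.hom_eval₂]
    exact hgs
  · have h1 : g.leadingCoeff = π f.leadingCoeff := by
      rw [leadingCoeff, leadingCoeff, ← Polynomial.natDegree_eq_of_degree_eq hdeg, ← hf, coeff_map]
      rfl
    refine hg0 (leadingCoeff_eq_zero.1 (h1.trans (Subtype.ext ?_)))
    exact (RingHom.congr_fun hcomp f.leadingCoeff).symm.trans h0

theorem RelAt.isAlgebraic {ι : Type} {φ : S →ₐ[R] K} {T : ι → S} {s : S} {f : (MvPolynomial ι R)[X]}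
    (h : RelAt φ T s f) {A : Subalgebra R K} (hT : ∀ i, φ (T i) ∈ A) : IsAlgebraic A (φ s) := by
  let π : MvPolynomial ι R →ₐ[R] A := MvPolynomial.aeval fun i => (⟨φ (T i), hT i⟩ : A)
  have hcomp : φ.toRingHom.comp (MvPolynomial.aeval T).toRingHom = (algebraMap A K).comp π.toRingHom := by
    refine MvPolynomial.ringHom_ext (fun r => ?_) (fun i => ?_)
    · simp [π]
    · simp [π]
  refine ⟨f.map π.toRingHom, fun h0 => h.2 ?_, ?_⟩
  · have h1 : π f.leadingCoeff = 0 := by
      have := congrArg (fun g : Polynomial A => g.coeff f.natDegree) h0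
      simpa [coeff_map] using this
    refine (RingHom.congr_fun hcomp f.leadingCoeff).trans ?_
    rw [RingHom.comp_apply]
    exact (congrArg _ h1).trans (map_zero _)
  · rw [aeval_def, eval₂_map, ← hcomp]
    have h1 := h.1
    rw [← AlgHom.coe_toRingHom φ, Polynomial.hom_eval₂] at h1
    exact h1

/-- At any field-valued point few elements, together with `c`, carry all the transcendence, as soon as
the fibres of `R[x] → S`, `x ↦ c`, have dimension at most `d`. -/
theorem exists_small (d : ℕ) (c : S)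
    (hc : ∀ P : PrimeSpectrum R[X], letI := (Polynomial.aeval (R := R) c).toRingHom.toAlgebra
      ringKrullDim (P.asIdeal.Fiber S) ≤ d)
    [Algebra.FiniteType R S] (φ : S →ₐ[R] K) :
    ∃ (m : ℕ) (y : Fin m → S), m ≤ d ∧
      ∀ s, IsAlgebraic (Algebra.adjoin R (Set.range (φ ∘ Fin.cons c y))) (φ s) := by
  classical
  letI := (Polynomial.aeval (R := R) c).toRingHom.toAlgebra
  have htow : IsScalarTower R R[X] S := IsScalarTower.of_algebraMap_eq fun r => by
    change _ = Polynomial.aeval c (algebraMap R R[X] r)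
    simp
  letI : Algebra R[X] K := (φ.toRingHom.comp (algebraMap R[X] S)).toAlgebra
  have htowK : IsScalarTower R R[X] K := IsScalarTower.of_algebraMap_eq fun r => by
    change _ = φ (algebraMap R[X] S (algebraMap R R[X] r))
    rw [← IsScalarTower.algebraMap_apply]
    exact (φ.commutes r).symm
  let φ' : S →ₐ[R[X]] K := { φ.toRingHom with commutes' := fun _ => rfl }
  let P : Ideal R[X] := RingHom.ker (algebraMap R[X] K)
  have : P.IsPrime := RingHom.ker_isPrime _
  let L := P.ResidueField
  letI : Algebra L K := (Ideal.ResidueField.lift P (algebraMap R[X] K) le_rfl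
    fun r hr => isUnit_iff_ne_zero.2 hr).toAlgebra
  have htL : IsScalarTower R[X] L K := IsScalarTower.of_algebraMap_eq fun r => by
    exact (Ideal.ResidueField.lift_algebraMap _ _ _ _ r).symm
  have htRL : IsScalarTower R L K := IsScalarTower.of_algebraMap_eq fun r => by
    rw [IsScalarTower.algebraMap_apply R R[X] L, ← IsScalarTower.algebraMap_apply R[X] L K,
      ← IsScalarTower.algebraMap_apply]
  let Θ : P.Fiber S →ₐ[L] K := Algebra.TensorProduct.lift (Algebra.ofId L K) φ' fun _ _ => Commute.all _ _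
  have : Algebra.FiniteType R[X] S := Algebra.FiniteType.of_restrictScalars_finiteType R R[X] S
  have : Algebra.FiniteType L Θ.range :=
    Algebra.FiniteType.of_surjective Θ.rangeRestrict Θ.rangeRestrict_surjective
  obtain ⟨e, he, he'⟩ := WeilLib.dim_eq_trdeg L Θ.range (FractionRing Θ.range)
  rw [DimTrdegLib.trdeg_fractionRing_eq L Θ.range (FractionRing Θ.range)] at he'
  have hed : e ≤ d := by
    have h1 : ringKrullDim Θ.range ≤ ringKrullDim (P.Fiber S) :=
      ringKrullDim_le_of_surjective Θ.rangeRestrict.toRingHom Θ.rangeRestrict_surjective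
    have h2 := h1.trans (hc ⟨P, inferInstance⟩)
    rw [he] at h2
    exact_mod_cast h2
  obtain ⟨G, hG⟩ := (inferInstance : Algebra.FiniteType R S).out
  obtain ⟨u, -, hu, humax⟩ := exists_maximal_algebraicIndependent (R := L) (∅ : Set K) (φ '' (G : Set S))
    (Set.empty_subset _) ((algebraicIndependent_empty_iff L K).2 (RingHom.injective _))
  obtain ⟨hind, hsub⟩ := hu
  have hfin : u.Finite := (G.finite_toSet.image φ).subset hsub
  let m := hfin.toFinset.card
  let en : Fin m ≃ u := (hfin.toFinset.equivFin.symm).trans (Equiv.subtypeEquivRight fun x => hfin.mem_toFinset)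
  have hpre : ∀ i : Fin m, ∃ g : S, φ g = (en i : K) := fun i => by
    obtain ⟨g, -, hg⟩ := hsub (en i).2
    exact ⟨g, hg⟩
  choose y hy using hpre
  have hmd : m ≤ d := by
    have hindy : AlgebraicIndependent L fun i : Fin m => Θ.rangeRestrict ((1 : L) ⊗ₜ[R[X]] y i) := by
      refine AlgebraicIndependent.of_comp Θ.range.val ?_
      convert hind.comp en en.injective using 1
      funext i
      change Θ ((1 : L) ⊗ₜ[R[X]] y i) = (en i : K)
      simp only [Θ, Algebra.TensorProduct.lift_tmul, map_one, one_mul]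
      exact hy i
    have := hindy.lift_cardinalMk_le_trdeg
    rw [he'] at this
    simp at this
    omega
  let A := Algebra.adjoin R (Set.range (φ ∘ Fin.cons c y))
  have hcA : φ c ∈ A := Algebra.subset_adjoin ⟨0, rfl⟩
  have hyA : ∀ x ∈ u, x ∈ A := fun x hx => by
    refine Algebra.subset_adjoin ⟨(en.symm ⟨x, hx⟩).succ, ?_⟩
    simp [hy]
  have hpolyA : ∀ r : R[X], algebraMap R[X] K r ∈ A := fun r => by
    change φ (Polynomial.aeval c r) ∈ A
    rw [← Polynomial.aeval_algHom_apply]
    exact Algebra.adjoin_le (S := A) (Set.singleton_subset_iff.2 hcA) (Polynomial.aeval_mem_adjoin_singleton R _)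
  have hB : ∀ b ∈ (Algebra.adjoin L u).restrictScalars R, IsAlgebraic A b := by
    intro b hb
    rw [Subalgebra.mem_restrictScalars] at hb
    induction hb using Algebra.adjoin_induction with
    | mem x hx => exact isAlgebraic_algebraMap (⟨x, hyA x hx⟩ : A)
    | algebraMap z =>
      obtain ⟨n, e, -, rfl⟩ := IsFractionRing.div_surjective (R[X] ⧸ P) z
      obtain ⟨n, rfl⟩ := Ideal.Quotient.mk_surjective n
      obtain ⟨e, rfl⟩ := Ideal.Quotient.mk_surjective e
      have key : ∀ r : R[X], algebraMap L K (algebraMap (R[X] ⧸ P) L (Ideal.Quotient.mk P r)) =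
          algebraMap R[X] K r := fun r => (IsScalarTower.algebraMap_apply R[X] L K r).symm
      rw [map_div₀, key, key, div_eq_mul_inv]
      exact (isAlgebraic_algebraMap (⟨_, hpolyA n⟩ : A)).mul (isAlgebraic_algebraMap (⟨_, hpolyA e⟩ : A)).inv
    | add x x' _ _ hx hx' => exact hx.add hx'
    | mul x x' _ _ hx hx' => exact hx.mul hx'
  refine ⟨m, y, hmd, isAlgebraic_of_gens φ hG _ fun g hg => ?_⟩
  by_cases hgu : φ g ∈ u
  · exact isAlgebraic_algebraMap (⟨_, hyA _ hgu⟩ : A)
  · have hnot : ¬ AlgebraicIndepOn L id (insert (φ g) u) := fun h =>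
      hgu (humax ⟨h, Set.insert_subset ⟨g, hg, rfl⟩ hsub⟩ (Set.subset_insert _ _) (Set.mem_insert _ _))
    rw [AlgebraicIndepOn.insert_iff hgu, Set.image_id, not_and, Transcendental, not_not] at hnot
    refine isAlgebraic_trans hB ?_
    exact (hnot hind).ringHom_of_comp_eq (S := ((Algebra.adjoin L u).restrictScalars R))
      (RingHom.id _) (RingHom.id K) (fun _ _ h => h) rfl

/-- No polynomial relation of bounded degree survives the substitution. -/
theorem degree_core {k' : Type u} [Field k'] [Algebra R k'] [Algebra k' K] [IsScalarTower R k' K] {m D n : ℕ}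
    (T : Fin (m + 1) → K) (hT' : AlgebraicIndependent k' T) (β : K) (f : (MvPolynomial (Fin (m + 1)) R)[X])
    (hf : f.eval₂ (MvPolynomial.aeval T).toRingHom β = 0) (hlead : MvPolynomial.aeval T f.leadingCoeff ≠ 0)
    (hD : ∀ j, (f.coeff j).degreeOf 0 ≤ D) (hn : D < n) (γ : k') (hγ : algebraMap k' K γ = T 0 ^ n + β) :
    False := by
  classical
  let E : (MvPolynomial (Fin m) k')[X] →ₐ[k'] K :=
    (MvPolynomial.aeval T).comp (MvPolynomial.finSuccEquiv k' m).symm.toAlgHom
  have hE : Function.Injective E :=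
    (algebraicIndependent_iff_injective_aeval.1 hT').comp (MvPolynomial.finSuccEquiv k' m).symm.injective
  let ψ : MvPolynomial (Fin (m + 1)) R →+* (MvPolynomial (Fin m) k')[X] :=
    (MvPolynomial.finSuccEquiv k' m).toRingEquiv.toRingHom.comp (MvPolynomial.map (algebraMap R k'))
  let u : (MvPolynomial (Fin m) k')[X] := C (MvPolynomial.C γ) - X ^ n
  have hψ : (E : (MvPolynomial (Fin m) k')[X] →+* K).comp ψ = (MvPolynomial.aeval T).toRingHom := by
    refine MvPolynomial.ringHom_ext (fun r => ?_) (fun i => ?_)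
    · simp [E, ψ, ← IsScalarTower.algebraMap_apply]
    · simp [E, ψ]
  have hEX : E X = T 0 := by
    have h1 : (MvPolynomial.finSuccEquiv k' m).symm X = MvPolynomial.X 0 := by
      rw [AlgEquiv.symm_apply_eq, MvPolynomial.finSuccEquiv_X_zero]
    simp [E, h1]
  have hEC : E (C (MvPolynomial.C γ)) = T 0 ^ n + β := by
    rw [show (C (MvPolynomial.C γ) : (MvPolynomial (Fin m) k')[X]) = algebraMap k' _ γ from rfl, E.commutes, hγ]
  have hu : E u = β := by
    have h1 : E u = E (C (MvPolynomial.C γ)) - E (X ^ n) := E.toRingHom.map_sub _ _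
    have h2 : E (X ^ n) = E X ^ n := E.toRingHom.map_pow _ _
    rw [h1, h2, hEX, hEC]
    ring
  have hzero : f.eval₂ ψ u = 0 := hE (by
    rw [map_zero, ← AlgHom.coe_toRingHom E, Polynomial.hom_eval₂, hψ]
    simpa [hu] using hf)
  have hdegψ : ∀ p : MvPolynomial (Fin (m + 1)) R, (ψ p).natDegree ≤ p.degreeOf 0 := fun p => by
    change (MvPolynomial.finSuccEquiv k' m (MvPolynomial.map (algebraMap R k') p)).natDegree ≤ _
    rw [MvPolynomial.natDegree_finSuccEquiv, MvPolynomial.degreeOf_le_iff]
    exact fun e he => (MvPolynomial.degreeOf_le_iff.1 le_rfl) e (MvPolynomial.support_map_subset _ _ he)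
  have hl0 : ψ f.leadingCoeff ≠ 0 := fun h => hlead
    ((RingHom.congr_fun hψ f.leadingCoeff).symm.trans (by simp [h]))
  obtain ⟨s, hs⟩ : ∃ s, f.natDegree = s := ⟨_, rfl⟩
  have hudeg : u.natDegree = n := by
    rw [natDegree_sub_eq_right_of_natDegree_lt (by simpa using hn.trans_le' (Nat.zero_le D)), natDegree_X_pow]
  rw [Polynomial.eval₂_eq_sum_range, hs, Finset.sum_range_succ, show f.coeff s = f.leadingCoeff by
    rw [leadingCoeff, hs]] at hzero
  rcases s with _ | s
  · simp at hzero
    exact hl0 hzero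
  have hu0 : u ≠ 0 := fun h => by simp [h] at hudeg; omega
  have htop : (ψ f.leadingCoeff * u ^ (s + 1)).natDegree = (ψ f.leadingCoeff).natDegree + (s + 1) * n := by
    rw [natDegree_mul hl0 (pow_ne_zero _ hu0), natDegree_pow, hudeg]
  have hrest : (∑ j ∈ Finset.range (s + 1), ψ (f.coeff j) * u ^ j).natDegree ≤ D + s * n := by
    refine natDegree_sum_le_of_forall_le _ _ fun j hj => ?_
    refine natDegree_mul_le.trans (add_le_add ((hdegψ _).trans (hD j)) ?_)
    rw [natDegree_pow, hudeg]
    exact Nat.mul_le_mul_right n (by rw [Finset.mem_range] at hj; omega)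
  have h2 : (∑ j ∈ Finset.range (s + 1), ψ (f.coeff j) * u ^ j) = -(ψ f.leadingCoeff * u ^ (s + 1)) :=
    by linear_combination hzero
  rw [h2, natDegree_neg, htop, Nat.succ_mul] at hrest
  omega

theorem degree_bound {k : Type u} [Field k] [Algebra R k] [Algebra k K] [IsScalarTower R k K] {m D n : ℕ}
    (T : Fin (m + 1) → K) (hT : AlgebraicIndependent k T) (β : K) (f : (MvPolynomial (Fin (m + 1)) R)[X])
    (hf : f.eval₂ (MvPolynomial.aeval T).toRingHom β = 0) (hlead : MvPolynomial.aeval T f.leadingCoeff ≠ 0)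
    (hD : ∀ j, (f.coeff j).degreeOf 0 ≤ D) (hn : D < n) (hγ : IsAlgebraic k (T 0 ^ n + β)) : False := by
  letI : IsScalarTower R (algebraicClosure k K) K :=
    IsScalarTower.of_algebraMap_eq fun r => rfl
  exact degree_core (k' := algebraicClosure k K) T (hT.extendScalars _) β f hf hlead hD hn
    ⟨_, mem_algebraicClosure_iff.2 hγ⟩ rfl

end FibPowLib
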