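import Groth.Agent.FibPowLib.Basic

/-!
# Fibre dimension bounds are stable under `x ↦ aⁿ + b`
-/

set_option autoImplicit false

universe u

open Polynomial Cardinal

namespace FibPowLib

variable {R S : Type u} [CommRing R] [CommRing S] [Algebra R S]

theorem isAlgebraic_adjoin {K : Type u} [Field K] [Algebra R K] {k : Type u} [Field k] [Algebra R k]
    [Algebra k K] [IsScalarTower R k K] (φ : S →ₐ[R] K) (hfrac : ∀ z : K, ∃ r s, φ r / φ s = z)
    {ι : Type} (T : ι → S) (h : ∀ s, IsAlgebraic (Algebra.adjoin R (Set.range (φ ∘ T))) (φ s)) :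
    Algebra.IsAlgebraic (Algebra.adjoin k (Set.range (φ ∘ T))) K := by
  have hle : Algebra.adjoin R (Set.range (φ ∘ T)) ≤
      (Algebra.adjoin k (Set.range (φ ∘ T))).restrictScalars R := Algebra.adjoin_le Algebra.subset_adjoin
  have h' : ∀ s, IsAlgebraic (Algebra.adjoin k (Set.range (φ ∘ T))) (φ s) := fun s =>
    (isAlgebraic_mono hle (h s)).ringHom_of_comp_eq (S := Algebra.adjoin k (Set.range (φ ∘ T)))
      (RingHom.id _) (RingHom.id K) (fun _ _ e => e) rfl
  refine ⟨fun z => ?_⟩
  obtain ⟨r, s, rfl⟩ := hfrac z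
  rw [div_eq_mul_inv]
  exact (h' r).mul (h' s).inv

theorem trdeg_le_succ {K : Type u} [Field K] [Algebra R K] {k : Type u} [Field k] [Algebra R k]
    [Algebra k K] [IsScalarTower R k K] (φ : S →ₐ[R] K) (hfrac : ∀ z : K, ∃ r s, φ r / φ s = z) {m : ℕ}
    (T : Fin (m + 1) → S) (h : ∀ s, IsAlgebraic (Algebra.adjoin R (Set.range (φ ∘ T))) (φ s)) :
    Algebra.trdeg k K ≤ ((m + 1 : ℕ) : Cardinal) := by
  classical
  have := isAlgebraic_adjoin (k := k) φ hfrac T h
  refine (Algebra.IsAlgebraic.trdeg_le_cardinalMk k (Set.range (φ ∘ T))).trans ?_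
  have h1 := Cardinal.mk_range_le_lift (f := φ ∘ T)
  simpa using h1

/-- A finite type algebra of dimension more than `d` has a field-valued point of transcendence degree more than `d`. -/
theorem exists_point (L F : Type u) [Field L] [CommRing F] [Algebra L F] [Algebra.FiniteType L F] (d : ℕ)
    (h : ¬ ringKrullDim F ≤ d) :
    ∃ (K : Type u) (_ : Field K) (_ : Algebra L K) (ψ : F →ₐ[L] K), (∀ z : K, ∃ x y, ψ x / ψ y = z) ∧
      ((d + 1 : ℕ) : Cardinal) ≤ Algebra.trdeg L K := by
  obtain ⟨Q, hQ⟩ : ∃ Q : PrimeSpectrum F, ((d + 1 : ℕ) : WithBot ℕ∞) ≤ ringKrullDim (F ⧸ Q.asIdeal) := by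
    by_contra hcon
    push Not at hcon
    refine h ?_
    refine iSup_le fun l => ?_
    by_contra hl
    have hl' : d + 1 ≤ l.length := by
      by_contra hl'
      exact hl (by exact_mod_cast (by omega : l.length ≤ d))
    refine (hcon l.head).not_ge ?_
    rw [ringKrullDim_quotient]
    let l' : LTSeries (PrimeSpectrum.zeroLocus (R := F) l.head.asIdeal) :=
      { length := l.length
        toFun := fun i => ⟨l i, fun x hx => l.monotone (Fin.zero_le i) hx⟩
        step := fun i => l.step i }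
    exact le_trans (by exact_mod_cast hl') (Order.LTSeries.length_le_krullDim l')
  obtain ⟨s, hs, hs'⟩ := WeilLib.dim_eq_trdeg L (F ⧸ Q.asIdeal) Q.asIdeal.ResidueField
  rw [hs] at hQ
  refine ⟨Q.asIdeal.ResidueField, inferInstance, inferInstance, IsScalarTower.toAlgHom L F _, fun z => ?_, ?_⟩
  · obtain ⟨x, y, -, rfl⟩ := IsFractionRing.div_surjective (F ⧸ Q.asIdeal) z
    obtain ⟨x, rfl⟩ := Ideal.Quotient.mk_surjective x
    obtain ⟨y, rfl⟩ := Ideal.Quotient.mk_surjective y
    exact ⟨x, y, rfl⟩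
  · rw [hs', Nat.cast_le]
    exact_mod_cast hQ

/-- A point of `S` at which `c` is algebraic over the residue field below and the transcendence
degree exceeds `d`. -/
def BadAt (R : Type u) [CommRing R] [Algebra R S] (d : ℕ) (c : S) (q : Ideal S) : Prop :=
  ∃ (k K : Type u) (_ : Field k) (_ : Field K) (_ : Algebra R k) (_ : Algebra R K) (_ : Algebra k K)
    (_ : IsScalarTower R k K) (φ : S →ₐ[R] K), RingHom.ker φ = q ∧ (∀ z : K, ∃ r s, φ r / φ s = z) ∧
      IsAlgebraic k (φ c) ∧ ((d + 1 : ℕ) : Cardinal) ≤ Algebra.trdeg k K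

theorem exists_badAt [Algebra.FiniteType R S] (d : ℕ) (a c : S)
    (ha : ∀ P : PrimeSpectrum R[X], letI := (Polynomial.aeval (R := R) a).toRingHom.toAlgebra
      ringKrullDim (P.asIdeal.Fiber S) ≤ d)
    (P : PrimeSpectrum R[X]) :
    letI := (Polynomial.aeval (R := R) c).toRingHom.toAlgebra
    ¬ ringKrullDim (P.asIdeal.Fiber S) ≤ d → ∃ q, BadAt R d c q := by
  letI := (Polynomial.aeval (R := R) c).toRingHom.toAlgebra
  intro hP
  have htow : IsScalarTower R R[X] S := IsScalarTower.of_algebraMap_eq fun r => by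
    change _ = Polynomial.aeval c (algebraMap R R[X] r)
    simp
  have : Algebra.FiniteType R[X] S := Algebra.FiniteType.of_restrictScalars_finiteType R R[X] S
  let F := P.asIdeal.Fiber S
  let L := P.asIdeal.ResidueField
  obtain ⟨K, _, _, ψ, hψfrac, hs'⟩ := exists_point L F d hP
  letI : Algebra R[X] K := ((algebraMap L K).comp (algebraMap R[X] L)).toAlgebra
  letI : Algebra R K := ((algebraMap R[X] K).comp (algebraMap R R[X])).toAlgebra
  have htXLK : IsScalarTower R[X] L K := IsScalarTower.of_algebraMap_eq fun _ => rfl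
  have htRXK : IsScalarTower R R[X] K := IsScalarTower.of_algebraMap_eq fun _ => rfl
  let φ : S →ₐ[R] K := ((ψ.restrictScalars R[X]).comp Algebra.TensorProduct.includeRight).restrictScalars R
  let p : Ideal R := P.asIdeal.comap (algebraMap R R[X])
  let k := p.ResidueField
  letI : Algebra k L := (Ideal.ResidueField.map p P.asIdeal (algebraMap R R[X]) rfl).toAlgebra
  letI : Algebra k K := ((algebraMap L K).comp (algebraMap k L)).toAlgebra
  have htkLK : IsScalarTower k L K := IsScalarTower.of_algebraMap_eq fun _ => rfl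
  have htRkL : IsScalarTower R k L := IsScalarTower.of_algebraMap_eq fun r => by
    rw [RingHom.algebraMap_toAlgebra, Ideal.ResidueField.map_algebraMap]
    exact IsScalarTower.algebraMap_apply R R[X] L r
  have htRkK : IsScalarTower R k K := IsScalarTower.of_algebraMap_eq fun r => by
    change _ = algebraMap L K (algebraMap k L (algebraMap R k r))
    rw [← IsScalarTower.algebraMap_apply R k L, IsScalarTower.algebraMap_apply R R[X] L,
      ← IsScalarTower.algebraMap_apply R[X] L K, ← IsScalarTower.algebraMap_apply]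
  have hr : ∀ r : R[X], φ (Polynomial.aeval c r) = algebraMap L K (algebraMap R[X] L r) := fun r => by
    rw [← IsScalarTower.algebraMap_apply R[X] L K]
    change (ψ.restrictScalars R[X]) (Algebra.TensorProduct.includeRight (algebraMap R[X] S r)) = _
    rw [AlgHom.commutes, AlgHom.commutes]
  have hfracF : ∀ x : F, ∃ r e, φ r / φ e = ψ x := fun x => by
    obtain ⟨r, hr', e, he⟩ := Ideal.Fiber.exists_smul_eq_one_tmul P.asIdeal x
    refine ⟨e, Polynomial.aeval c r, ?_⟩
    have h1 : φ e = φ (Polynomial.aeval c r) * ψ x := by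
      change (ψ.restrictScalars R[X]) ((1 : L) ⊗ₜ[R[X]] e) = _
      rw [← he, map_smul, Algebra.smul_def, hr, ← IsScalarTower.algebraMap_apply R[X] L K]
      rfl
    rw [h1, mul_div_cancel_left₀]
    rw [hr, map_ne_zero_iff _ (RingHom.injective _)]
    exact fun h => hr' (Ideal.algebraMap_residueField_eq_zero.1 h)
  have hfrac : ∀ z : K, ∃ r e, φ r / φ e = z := fun z => by
    obtain ⟨x, y, rfl⟩ := hψfrac z
    obtain ⟨r, e, h1⟩ := hfracF x
    obtain ⟨r', e', h2⟩ := hfracF y
    refine ⟨r * e', e * r', ?_⟩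
    simp only [map_mul, ← h1, ← h2]
    rw [div_div_div_eq]
  obtain ⟨m, y, hm, hy⟩ := exists_small d a ha φ
  have hle := trdeg_le_succ (k := k) φ hfrac (Fin.cons a y) hy
  have hadd := trdeg_add_eq k L (A := K)
  refine ⟨RingHom.ker φ, k, K, inferInstance, inferInstance, inferInstance, inferInstance, inferInstance,
    htRkK, φ, rfl, hfrac, ?_, ?_⟩
  · by_contra hna
    have hX : Transcendental k (algebraMap R[X] L X) := fun halg => hna (by
      have := halg.algebraMap (A := K)
      rwa [← hr, Polynomial.aeval_X] at this)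
    have : Algebra.Transcendental k L := ⟨_, hX⟩
    have h1 : 1 ≤ Algebra.trdeg k L := Cardinal.one_le_iff_pos.2 (trdeg_pos k L)
    have h2 : ((d + 2 : ℕ) : Cardinal) ≤ ((m + 1 : ℕ) : Cardinal) := by
      refine le_trans ?_ hle
      rw [← hadd, show (d + 2) = 1 + (d + 1) by omega, Nat.cast_add, Nat.cast_one]
      exact add_le_add h1 hs'
    rw [Nat.cast_le] at h2
    omega
  · rw [← hadd]
    exact le_trans hs' le_add_self

theorem main [Algebra.FiniteType R S] (d : ℕ) (a b : S)
    (ha : ∀ P : PrimeSpectrum R[X], letI := (Polynomial.aeval (R := R) a).toRingHom.toAlgebra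
      ringKrullDim (P.asIdeal.Fiber S) ≤ d) :
    ∃ n₀ : ℕ, ∀ n ≥ n₀, ∀ P : PrimeSpectrum R[X], letI := (Polynomial.aeval (R := R) (a ^ n + b)).toRingHom.toAlgebra
      ringKrullDim (P.asIdeal.Fiber S) ≤ d := by
  classical
  by_contra hcon
  push Not at hcon
  have hbad : ∀ N : ℕ, ∃ n ≥ N, ∃ q, BadAt R d (a ^ n + b) q := fun N => by
    obtain ⟨n, hn, P, hP⟩ := hcon N
    exact ⟨n, hn, exists_badAt d a (a ^ n + b) ha P (not_le.2 hP)⟩
  choose n hn q hq using hbad
  have hqp : ∀ i, (q i).IsPrime := fun i => by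
    obtain ⟨k, K, _, _, _, _, _, _, φ, hker, -⟩ := hq i
    rw [← hker]
    exact RingHom.ker_isPrime _
  let U : Ultrafilter ℕ := Ultrafilter.of Filter.atTop
  have hU : (U : Filter ℕ) ≤ Filter.atTop := Ultrafilter.of_le _
  let Q : Ideal S :=
    { carrier := {x | ∀ᶠ i in (U : Filter ℕ), x ∈ q i}
      add_mem' := fun hx hy => by filter_upwards [hx, hy] with i h1 h2 using (q i).add_mem h1 h2
      zero_mem' := Filter.Eventually.of_forall fun i => (q i).zero_mem
      smul_mem' := fun c x hx => by filter_upwards [hx] with i h1 using (q i).mul_mem_left c h1 }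
  have hQ : Q.IsPrime := by
    refine ⟨fun h => ?_, fun {x y} hxy => ?_⟩
    · obtain ⟨i, hi⟩ := (show ∀ᶠ i in (U : Filter ℕ), (1 : S) ∈ q i from
        (show (1 : S) ∈ Q from h ▸ Submodule.mem_top)).exists
      exact (hqp i).ne_top ((Ideal.eq_top_iff_one _).2 hi)
    · exact Ultrafilter.eventually_or.1 (Filter.Eventually.mono hxy fun i hi => (hqp i).mem_or_mem hi)
  let K₀ := Q.ResidueField
  let φ₀ : S →ₐ[R] K₀ := IsScalarTower.toAlgHom R S K₀
  obtain ⟨m, y, hm, hy⟩ := exists_small d a ha φ₀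
  let T : Fin (m + 1) → S := Fin.cons a y
  obtain ⟨G, hG⟩ := (inferInstance : Algebra.FiniteType R S).out
  choose f hf using fun s => exists_relAt (hy s)
  let D := (f b).support.sup fun j => ((f b).coeff j).degreeOf 0
  have hev : ∀ s, ∀ᶠ i in (U : Filter ℕ), (f s).eval₂ (MvPolynomial.aeval T).toRingHom s ∈ q i ∧
      MvPolynomial.aeval T (f s).leadingCoeff ∉ q i := fun s => by
    obtain ⟨h1, h2⟩ := hf s
    refine Filter.Eventually.and (Ideal.algebraMap_residueField_eq_zero.1 h1 : _ ∈ Q) ?_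
    exact Ultrafilter.eventually_not.2 fun h => h2 (Ideal.algebraMap_residueField_eq_zero.2 (show _ ∈ Q from h))
  obtain ⟨i, hi, hib, hiD⟩ := (((Filter.eventually_all_finset G).2 fun g _ => hev g).and ((hev b).and
    (hU (Filter.eventually_ge_atTop (D + 1))))).exists
  obtain ⟨k, K, _, _, _, _, _, _, φ, hker, hfrac, halg, htr⟩ := hq i
  have hrel : ∀ {s}, ((f s).eval₂ (MvPolynomial.aeval T).toRingHom s ∈ q i ∧
      MvPolynomial.aeval T (f s).leadingCoeff ∉ q i) → RelAt φ T s (f s) := fun {s} h => by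
    rw [← hker] at h
    exact h
  have hall : ∀ s, IsAlgebraic (Algebra.adjoin R (Set.range (φ ∘ T))) (φ s) :=
    isAlgebraic_of_gens φ hG _ fun g hg => (hrel (hi g hg)).isAlgebraic fun j =>
      Algebra.subset_adjoin ⟨j, rfl⟩
  have hle := trdeg_le_succ (k := k) φ hfrac T hall
  have := isAlgebraic_adjoin (k := k) φ hfrac T hall
  have hind : AlgebraicIndependent k (φ ∘ T) := by
    refine (Algebra.IsAlgebraic.isTranscendenceBasis_of_lift_le_trdeg_of_finite k (φ ∘ T) ?_).1
    refine le_trans ?_ (Cardinal.lift_le.2 htr)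
    simp
    omega
  obtain ⟨hb1, hb2⟩ := hrel hib
  have hcomp : φ.toRingHom.comp (MvPolynomial.aeval (R := R) T).toRingHom =
      (MvPolynomial.aeval (R := R) (φ ∘ T)).toRingHom := by
    refine MvPolynomial.ringHom_ext (fun r => ?_) (fun j => ?_)
    · simp
    · simp
  refine degree_bound (k := k) (D := D) (n := n i) (φ ∘ T) hind (φ b) (f b) ?_ ?_ (fun j => ?_) ?_ ?_
  · rw [← hcomp]
    exact (Polynomial.hom_eval₂ (f b) (MvPolynomial.aeval T).toRingHom φ.toRingHom b).symm.trans hb1
  · exact fun h => hb2 ((RingHom.congr_fun hcomp _).trans h)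
  · by_cases hj : j ∈ (f b).support
    · exact Finset.le_sup (f := fun j => ((f b).coeff j).degreeOf 0) hj
    · rw [Polynomial.notMem_support_iff.1 hj, MvPolynomial.degreeOf_zero]
      exact Nat.zero_le _
  · have := hn i
    omega
  · simpa [T, map_add, map_pow] using halg

end FibPowLib
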